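import Mathlib.AlgebraicGeometry.Fiber
import Mathlib.AlgebraicGeometry.Morphisms.FinitePresentation
import Mathlib.AlgebraicGeometry.Noetherian
import Mathlib.Topology.JacobsonSpace

/-!
# Closed points of a fibre in the image of the fibre over a point
-/

set_option autoImplicit false
set_option linter.style.haveILetI false
set_option backward.isDefEq.respectTransparency.types false
universe u

open CategoryTheory CategoryTheory.Limits AlgebraicGeometry Topology

noncomputable section

namespace Groth.Agent.GrpdCut19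

theorem eq_empty_of_closedPoints_disjoint {α : Type*} [TopologicalSpace α] [TopologicalSpace.NoetherianSpace α]
    [JacobsonSpace α] {E : Set α} (hE : IsConstructible E) : E ∩ closedPoints α = ∅ → E = ∅ := by
  induction E, hE using IsConstructible.induction_of_isTopologicalBasis
      (b := fun U : TopologicalSpace.Opens α => (U : Set α)) with
  | basis =>
    refine TopologicalSpace.isTopologicalBasis_of_isOpen_of_nhds ?_ fun a v ha hv => ⟨v, ⟨⟨v, hv⟩, rfl⟩, ha, subset_rfl⟩
    rintro _ ⟨U, rfl⟩
    exact U.isOpen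
  | isCompact_basis U => exact TopologicalSpace.NoetherianSpace.isCompact _
  | sdiff U s hs =>
    intro h
    by_contra hne
    have hlc : IsLocallyClosed ((U : Set α) \ ⋃ j ∈ s, (j : Set α)) :=
      U.isOpen.isLocallyClosed.inter (isOpen_biUnion fun j _ => j.isOpen).isClosed_compl.isLocallyClosed
    exact (nonempty_inter_closedPoints (Set.nonempty_iff_ne_empty.2 hne) hlc).ne_empty h
  | union s _ t _ hs ht =>
    intro h
    rw [Set.union_inter_distrib_right, Set.union_empty_iff] at h
    rw [hs h.1, ht h.2, Set.empty_union]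

theorem exists_closed_notMem {T X Y Z : Scheme.{u}} [IsNoetherian T] (pX : X ⟶ T) (pY : Y ⟶ T) (pZ : Z ⟶ T)
    [LocallyOfFiniteType pX] [QuasiCompact pX] [LocallyOfFiniteType pY] [QuasiCompact pY]
    [LocallyOfFiniteType pZ] [QuasiCompact pZ]
    (u : Y ⟶ X) (v : Y ⟶ Z) (hu : u ≫ pX = pY) (hv : v ≫ pZ = pY) (z : Z)
    (hzc : ∀ z' : Z, z' ∈ closure ({z} : Set Z) → pZ z' = pZ z → z' = z)
    (hinf : (u '' (v ⁻¹' {z})).Infinite) (Sx : Set X) (hSx : Sx.Finite) :
    ∃ x ∈ u '' (v ⁻¹' {z}), x ∉ Sx ∧ ∀ x', pX x' = pX x → x ⤳ x' → x' = x := by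
  let s := pZ z
  let wX : pY.fiber s ⟶ pX.fiber s := pullback.map pY (T.fromSpecResidueField s) pX (T.fromSpecResidueField s)
    u (𝟙 _) (𝟙 _) (by rw [Category.comp_id, hu]) (by rw [Category.comp_id, Category.id_comp])
  let wZ : pY.fiber s ⟶ pZ.fiber s := pullback.map pY (T.fromSpecResidueField s) pZ (T.fromSpecResidueField s)
    v (𝟙 _) (𝟙 _) (by rw [Category.comp_id, hv]) (by rw [Category.comp_id, Category.id_comp])
  have hwX : wX ≫ pX.fiberι s = pY.fiberι s ≫ u := pullback.lift_fst _ _ _
  have hwZ : wZ ≫ pZ.fiberι s = pY.fiberι s ≫ v := pullback.lift_fst _ _ _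
  haveI : LocallyOfFiniteType (pY.fiberToSpecResidueField s) := MorphismProperty.pullback_snd _ _ inferInstance
  haveI : LocallyOfFiniteType (pX.fiberToSpecResidueField s) := MorphismProperty.pullback_snd _ _ inferInstance
  haveI hYf : IsNoetherian (pY.fiber s) :=
    { toCompactSpace := inferInstance
      toIsLocallyNoetherian := LocallyOfFiniteType.isLocallyNoetherian (pY.fiberToSpecResidueField s) }
  haveI hXf : IsNoetherian (pX.fiber s) :=
    { toCompactSpace := inferInstance
      toIsLocallyNoetherian := LocallyOfFiniteType.isLocallyNoetherian (pX.fiberToSpecResidueField s) }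
  haveI : LocallyOfFiniteType wX := by
    haveI : LocallyOfFiniteType (wX ≫ pX.fiberToSpecResidueField s) := by
      rw [show wX ≫ pX.fiberToSpecResidueField s = pY.fiberToSpecResidueField s from
        (pullback.lift_snd _ _ _).trans (Category.comp_id _)]
      exact MorphismProperty.pullback_snd _ _ inferInstance
    exact locallyOfFiniteType_of_comp wX (pX.fiberToSpecResidueField s)
  obtain ⟨ζ, hζ⟩ : z ∈ Set.range (pZ.fiberι s) := by rw [pZ.range_fiberι]; rfl
  have hζc : IsClosed ({ζ} : Set (pZ.fiber s)) := by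
    rw [← closure_eq_iff_isClosed]
    refine subset_antisymm (fun b hb => ?_) subset_closure
    refine (pZ.fiberι s).isEmbedding.injective ((hzc _ ?_ ?_).trans hζ.symm)
    · rw [← hζ]
      exact specializes_iff_mem_closure.1 ((specializes_iff_mem_closure.2 hb).map (pZ.fiberι s).continuous)
    · have : pZ.fiberι s b ∈ Set.range (pZ.fiberι s) := ⟨b, rfl⟩
      rwa [pZ.range_fiberι] at this
  let Ef := wX '' (wZ ⁻¹' {ζ})
  have hEf : IsConstructible Ef := by
    refine Scheme.Hom.isConstructible_image wX ?_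
    have hc : IsClosed (wZ ⁻¹' {ζ}) := hζc.preimage wZ.continuous
    rw [← isConstructible_compl]
    exact (TopologicalSpace.NoetherianSpace.isCompact _).isConstructible hc.isOpen_compl
  have hE : u '' (v ⁻¹' {z}) = pX.fiberι s '' Ef := by
    ext x
    constructor
    · rintro ⟨y, hy, rfl⟩
      obtain ⟨b, rfl⟩ : y ∈ Set.range (pY.fiberι s) := by
        rw [pY.range_fiberι, Set.mem_preimage, Set.mem_singleton_iff, ← hv, Scheme.Hom.comp_apply, hy]
      refine ⟨wX b, ⟨b, (pZ.fiberι s).isEmbedding.injective ?_, rfl⟩, ?_⟩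
      · rw [hζ, ← Scheme.Hom.comp_apply, hwZ, Scheme.Hom.comp_apply]; exact hy
      · rw [← Scheme.Hom.comp_apply, hwX, Scheme.Hom.comp_apply]
    · rintro ⟨_, ⟨b, hb, rfl⟩, rfl⟩
      refine ⟨pY.fiberι s b, ?_, by rw [← Scheme.Hom.comp_apply, ← hwX, Scheme.Hom.comp_apply]⟩
      show v (pY.fiberι s b) = z
      rw [← Scheme.Hom.comp_apply, ← hwZ, Scheme.Hom.comp_apply, show wZ b = ζ from hb, hζ]
  by_contra hne
  push Not at hne
  let F0 := Ef ∩ closedPoints (pX.fiber s)
  have hF0 : F0.Finite := by
    refine Set.Finite.subset (hSx.preimage (pX.fiberι s).isEmbedding.injective.injOn) ?_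
    rintro a ⟨ha, hac⟩
    show pX.fiberι s a ∈ Sx
    by_contra hn
    obtain ⟨x', h1, h2, h3⟩ := hne _ (hE ▸ ⟨a, ha, rfl⟩) hn
    have hs : pX (pX.fiberι s a) = s := by
      have : pX.fiberι s a ∈ Set.range (pX.fiberι s) := ⟨a, rfl⟩
      rwa [pX.range_fiberι] at this
    obtain ⟨a', rfl⟩ : x' ∈ Set.range (pX.fiberι s) := by
      rw [pX.range_fiberι]; exact h1.trans hs
    have := (mem_closedPoints_iff.1 hac).closure_eq ▸
      specializes_iff_mem_closure.1 ((pX.fiberι s).isEmbedding.isInducing.specializes_iff.1 h2)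
    exact h3 (congrArg _ this)
  have hc : IsClosed F0 := by
    rw [← Set.biUnion_of_singleton F0]
    exact hF0.isClosed_biUnion fun a ha => mem_closedPoints_iff.1 ha.2
  have hd : IsConstructible (Ef \ F0) := hEf.sdiff (by
    rw [← isConstructible_compl]
    exact (TopologicalSpace.NoetherianSpace.isCompact _).isConstructible hc.isOpen_compl)
  have h0 := eq_empty_of_closedPoints_disjoint hd (Set.eq_empty_iff_forall_notMem.2 fun a ha => ha.1.2 ⟨ha.1.1, ha.2⟩)
  exact hinf (hE ▸ (hF0.subset (Set.sdiff_eq_empty.1 h0)).image _)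

end Groth.Agent.GrpdCut19
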