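import Groth.Agent.Lib.GrpdCut19.Slice
import Groth.Agent.Lib.GrpdCut19.Fibre
import Groth.Agent.Lib.RelAmple18.Basic
import Groth.Agent.Lib.AmpleImm18.Main
import Groth.Prelude.Def_RelProj

/-!
# Closed subschemes cutting the image of a fibre in a finite set, flatly
-/

set_option autoImplicit false
set_option linter.style.haveILetI false
set_option backward.isDefEq.respectTransparency.types false
universe u

open CategoryTheory CategoryTheory.Limits AlgebraicGeometry TopologicalSpace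

noncomputable section

namespace Groth.Agent.GrpdCut19

section Avoid

variable {A σ : Type u} [CommRing A] [SetLike σ A] [AddSubgroupClass σ A] (𝒜 : ℕ → σ) [GradedRing 𝒜]

theorem exists_mem_notMem_of_homogeneous {I P : Ideal A} (hI : I.IsHomogeneous 𝒜) (h : ¬ I ≤ P) :
    ∃ e, ∃ y ∈ 𝒜 e, y ∈ I ∧ y ∉ P := by
  classical
  obtain ⟨y, hy, hyP⟩ := SetLike.not_le_iff_exists.1 h
  by_contra hc
  push Not at hc
  refine hyP ?_
  rw [← DirectSum.sum_support_decompose 𝒜 y]
  exact Ideal.sum_mem _ fun e _ => hc e _ (DirectSum.decompose 𝒜 y e).2 (hI e hy)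

/-- Homogeneous prime avoidance inside a homogeneous ideal. -/
theorem exists_homogeneous_avoid {I : Ideal A} (hI : I.IsHomogeneous 𝒜) :
    ∀ s : Finset (Ideal A), (∀ P ∈ s, P.IsPrime ∧ P.IsHomogeneous 𝒜 ∧ ¬ I ≤ P ∧ ∃ z ∈ 𝒜 1, z ∉ P) →
      ∃ d, 0 < d ∧ ∃ x ∈ 𝒜 d, x ∈ I ∧ ∀ P ∈ s, x ∉ P := by
  classical
  intro s
  induction s using Finset.strongInduction with
  | _ s ih =>
  intro hs
  rcases s.eq_empty_or_nonempty with rfl | hne
  · exact ⟨1, Nat.one_pos, 0, zero_mem _, zero_mem _, by simp⟩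
  obtain ⟨P, hP, hmin⟩ := s.finite_toSet.exists_minimal hne
  obtain ⟨hPp, -, hIP, z, hz, hzP⟩ := hs P hP
  obtain ⟨d, hd, x, hx, hxI, hxt⟩ := ih _ (Finset.erase_ssubset hP) fun Q hQ => hs Q (Finset.mem_of_mem_erase hQ)
  by_cases hxP : x ∈ P
  swap
  · exact ⟨d, hd, x, hx, hxI, fun Q hQ => if h : Q = P then h ▸ hxP else hxt Q (Finset.mem_erase.2 ⟨h, hQ⟩)⟩
  have key : ∀ t : Finset (Ideal A), t ⊆ s.erase P → ∃ e, ∃ y ∈ 𝒜 e, y ∈ I ∧ y ∉ P ∧ ∀ Q ∈ t, y ∈ Q := by
    intro t
    induction t using Finset.induction with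
    | empty =>
      intro _
      obtain ⟨e, y, hy, hyI, hyP⟩ := exists_mem_notMem_of_homogeneous 𝒜 hI hIP
      exact ⟨e, y, hy, hyI, hyP, by simp⟩
    | insert Q t hQt iht =>
      intro hsub
      obtain ⟨e, y, hy, hyI, hyP, hyt⟩ := iht ((Finset.subset_insert Q t).trans hsub)
      have hQ := Finset.mem_erase.1 (hsub (Finset.mem_insert_self Q t))
      have hQP : ¬ Q ≤ P := fun hle => hQ.1 (le_antisymm hle (hmin (Finset.mem_coe.2 hQ.2) hle))
      obtain ⟨e', w, hw, hwQ, hwP⟩ := exists_mem_notMem_of_homogeneous 𝒜 (hs Q hQ.2).2.1 hQP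
      refine ⟨e + e', y * w, SetLike.mul_mem_graded hy hw, I.mul_mem_right _ hyI,
        fun h => (hPp.mem_or_mem h).elim hyP hwP, fun Q' hQ' => ?_⟩
      rcases Finset.mem_insert.1 hQ' with rfl | hQ'
      · exact Ideal.mul_mem_left _ _ hwQ
      · exact Ideal.mul_mem_right _ _ (hyt Q' hQ')
  obtain ⟨e, y, hy, hyI, hyP, hyt⟩ := key _ subset_rfl
  have hy' : y * z ∈ 𝒜 (e + 1) := SetLike.mul_mem_graded hy hz
  have hyP' : y * z ∉ P := fun h => (hPp.mem_or_mem h).elim hyP hzP
  refine ⟨(e + 1) * d, Nat.mul_pos e.succ_pos hd, x ^ (e + 1) + (y * z) ^ d, add_mem ?_ ?_,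
    add_mem (I.pow_mem_of_mem hxI _ e.succ_pos) (I.pow_mem_of_mem (I.mul_mem_right _ hyI) _ hd), fun Q hQ h => ?_⟩
  · have := SetLike.pow_mem_graded (e + 1) hx
    rwa [smul_eq_mul] at this
  · have := SetLike.pow_mem_graded d hy'
    rwa [smul_eq_mul, mul_comm] at this
  by_cases hQP : Q = P
  · subst hQP
    exact hyP' (hPp.mem_of_pow_mem d ((Q.add_mem_iff_right (Q.pow_mem_of_mem hxP _ e.succ_pos)).1 h))
  · have hQ' : Q ∈ s.erase P := Finset.mem_erase.2 ⟨hQP, hQ⟩
    exact hxt Q hQ' ((hs Q hQ).1.mem_of_pow_mem _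
      ((Q.add_mem_iff_left (Q.pow_mem_of_mem (Q.mul_mem_right _ (hyt Q hQ')) _ hd)).1 h))

end Avoid

attribute [local instance] MvPolynomial.gradedAlgebra

/-- A hypersurface through a point avoiding finitely many others which are not its specializations. -/
theorem exists_hypersurface_avoid (n : ℕ) (R : Type u) [CommRing R] (w₀ : CohB1.ProjSpace n R)
    (S : Set (CohB1.ProjSpace n R)) (hS : S.Finite) (h₀ : ∀ w ∈ S, ¬ w₀ ⤳ w) :
    ∃ (H : Scheme.{u}) (h : H ⟶ CohB1.ProjSpace n R), IsClosedImmersion h ∧ IsLocPrincipal h ∧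
      w₀ ∈ Set.range h ∧ ∀ w ∈ S, w ∉ Set.range h := by
  classical
  let pr : CohB1.ProjSpace n R → Ideal (MvPolynomial (Fin (n + 1)) R) := fun w =>
    (w : ProjectiveSpectrum (CohB1.polyGrading n R)).asHomogeneousIdeal.toIdeal
  obtain ⟨d, -, f, hf, hf₀, hfS⟩ := exists_homogeneous_avoid (CohB1.polyGrading n R) (I := pr w₀)
    (HomogeneousIdeal.isHomogeneous _) (hS.toFinset.image pr) (fun P hP => by
      obtain ⟨w, hw, rfl⟩ := Finset.mem_image.1 hP
      refine ⟨(w : ProjectiveSpectrum (CohB1.polyGrading n R)).isPrime, HomogeneousIdeal.isHomogeneous _, fun hle =>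
        h₀ w (hS.mem_toFinset.1 hw) ((ProjectiveSpectrum.le_iff_mem_closure (𝒜 := CohB1.polyGrading n R) w₀ w).1 hle
          |> specializes_iff_mem_closure.2), ?_⟩
      obtain ⟨j, hj⟩ := ProjSpace.exists_mem_chart n R w
      rw [ProjSpace.opensRange_chart] at hj
      exact ⟨MvPolynomial.X j, MvPolynomial.isHomogeneous_X R j, hj⟩)
  obtain ⟨H, h, hh, hlp, hran⟩ := exists_hypersurface n R f hf
  exact ⟨H, h, hh, hlp, (hran w₀).2 hf₀, fun w hw hwr =>
    hfS _ (Finset.mem_image.2 ⟨w, hS.mem_toFinset.2 hw, rfl⟩) ((hran w).1 hwr)⟩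

section Main

variable {T X Y Z : Scheme.{u}} (u : Y ⟶ X) (v : Y ⟶ Z) (z : Z)

/-- The image in `X` of the fibre over `z`, inside a closed subscheme. -/
def trace {F : Scheme.{u}} (i : F ⟶ X) : Set X := u '' ((u ⁻¹' Set.range i) ∩ v ⁻¹' {z})

theorem trace_eq {F : Scheme.{u}} (i : F ⟶ X) :
    trace u v z i = (pullback.snd i u ≫ u) '' ((pullback.snd i u ≫ v) ⁻¹' {z}) := by
  rw [trace, ← Scheme.Pullback.range_snd i u, Set.inter_comm, ← Set.image_preimage_eq_inter_range]
  simp only [Scheme.Hom.comp_base, TopCat.coe_comp, Set.image_comp, Set.preimage_comp]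

theorem exists_cut_finite [IsNoetherian T] {R : Type u} [CommRing R] (pX : X ⟶ T) (pY : Y ⟶ T) (pZ : Z ⟶ T)
    [LocallyOfFiniteType pX] [QuasiCompact pX] [LocallyOfFiniteType pY] [QuasiCompact pY]
    [LocallyOfFiniteType pZ] [QuasiCompact pZ]
    (hu : u ≫ pX = pY) (hv : v ≫ pZ = pY) {n : ℕ} (j : X ⟶ CohB1.ProjSpace n R) [IsImmersion j]
    (hzc : ∀ z' : Z, z' ∈ closure ({z} : Set Z) → pZ z' = pZ z → z' = z) :
    ∀ (C : Closeds X) (F : Scheme.{u}) (i : F ⟶ X), IsClosedImmersion i → (C : Set X) = closure (trace u v z i) →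
      (trace u v z i).Nonempty →
      (∀ y' : ↥(pullback i u), (pullback.snd i u ≫ v) y' = z → ((pullback.snd i u ≫ v).stalkMap y').hom.Flat) →
      ∃ (F : Scheme.{u}) (i : F ⟶ X), IsClosedImmersion i ∧ (trace u v z i).Finite ∧ (trace u v z i).Nonempty ∧
        ∀ y' : ↥(pullback i u), (pullback.snd i u ≫ v) y' = z → ((pullback.snd i u ≫ v).stalkMap y').hom.Flat := by
  haveI : IsNoetherian X :=
    { toCompactSpace := QuasiCompact.compactSpace_of_compactSpace pX
      toIsLocallyNoetherian := LocallyOfFiniteType.isLocallyNoetherian pX }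
  haveI : IsNoetherian Z :=
    { toCompactSpace := QuasiCompact.compactSpace_of_compactSpace pZ
      toIsLocallyNoetherian := LocallyOfFiniteType.isLocallyNoetherian pZ }
  intro C
  induction C using WellFoundedLT.induction with
  | _ C ih =>
  intro F i hi hC hne hflat
  by_cases hfin : (trace u v z i).Finite
  · exact ⟨F, i, hi, hfin, hne, hflat⟩
  let u' := pullback.snd i u ≫ u
  let v' := pullback.snd i u ≫ v
  let pY' := pullback.snd i u ≫ pY
  have hu' : u' ≫ pX = pY' := (Category.assoc _ _ _).trans (congrArg _ hu)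
  have hv' : v' ≫ pZ = pY' := (Category.assoc _ _ _).trans (congrArg _ hv)
  haveI : IsClosedImmersion (pullback.snd i u) := MorphismProperty.pullback_snd _ _ hi
  haveI : LocallyOfFiniteType pY' := inferInstance
  haveI : QuasiCompact pY' := inferInstance
  haveI : AlgebraicGeometry.IsNoetherian (pullback i u) :=
    { toCompactSpace := QuasiCompact.compactSpace_of_compactSpace pY'
      toIsLocallyNoetherian := LocallyOfFiniteType.isLocallyNoetherian pY' }
  haveI : LocallyOfFiniteType v' := by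
    haveI : LocallyOfFiniteType (v' ≫ pZ) := by rw [hv']; infer_instance
    exact locallyOfFiniteType_of_comp v' pZ
  obtain ⟨S, hS, hSz, hSreg⟩ := exists_finite_assPoints v' z
  have htr : trace u v z i = u' '' (v' ⁻¹' {z}) := trace_eq u v z i
  obtain ⟨x₀, hx₀, hx₀S, hx₀c⟩ := exists_closed_notMem pX pY' pZ u' v' hu' hv' z hzc (htr ▸ hfin) _ (hS.image u')
  obtain ⟨H, h, hh, hlp, hh₀, hhS⟩ := exists_hypersurface_avoid n R (j x₀) (j '' (u' '' S))
    ((hS.image u').image j) (by
      rintro _ ⟨_, ⟨η, hη, rfl⟩, rfl⟩ hsp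
      refine hx₀S ⟨η, hη, hx₀c _ ?_ (j.isEmbedding.isInducing.specializes_iff.1 hsp)⟩
      obtain ⟨y, hy, rfl⟩ := hx₀
      have key : ∀ a, v' a = z → pX (u' a) = pZ z := fun a ha => by
        rw [← Scheme.Hom.comp_apply, hu', ← hv', Scheme.Hom.comp_apply, ha]
      rw [key η (hSz η hη), key y hy])
  let F' := pullback (i ≫ j) h
  let i' : F' ⟶ X := pullback.fst _ _ ≫ i
  haveI : IsClosedImmersion (pullback.fst (i ≫ j) h) := MorphismProperty.pullback_fst _ _ hh
  have hi' : IsClosedImmersion i' := inferInstance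
  have hran : Set.range i' = Set.range i ∩ j ⁻¹' Set.range h := by
    simp only [i', Scheme.Hom.comp_base, TopCat.coe_comp, Set.range_comp]
    rw [Scheme.Pullback.range_fst (i ≫ j) h]
    ext x
    constructor
    · rintro ⟨a, ha, rfl⟩
      exact ⟨⟨a, rfl⟩, ha⟩
    · rintro ⟨⟨a, rfl⟩, ha⟩
      exact ⟨a, ha, rfl⟩
  have htr' : trace u v z i' = trace u v z i ∩ j ⁻¹' Set.range h := by
    simp only [trace, hran, Set.preimage_inter, ← Set.image_inter_preimage]
    rw [Set.inter_right_comm]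
  obtain ⟨η, hη⟩ : S.Nonempty := by
    obtain ⟨y, hy, -⟩ := hx₀
    by_contra hS0
    have h0 := hSreg y hy ⊤ trivial 0 fun η hη _ => absurd ⟨η, hη⟩ hS0
    rw [map_zero, map_zero] at h0
    haveI : Nontrivial (↑((pullback i u).presheaf.stalk y) ⧸ fibIdeal v' y) := by
      refine Ideal.Quotient.nontrivial_iff.2 fun htop => ?_
      haveI : IsLocalHom (v'.stalkMap y).hom := inferInstance
      have hle : fibIdeal v' y ≤ IsLocalRing.maximalIdeal _ :=
        Ideal.map_le_iff_le_comap.2 fun a ha => by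
          rw [Ideal.mem_comap, IsLocalRing.mem_maximalIdeal]
          exact fun hu => (IsLocalRing.mem_maximalIdeal _).1 ha (isUnit_of_map_unit _ _ hu)
      exact (IsLocalRing.maximalIdeal.isMaximal _).ne_top (top_le_iff.1 (htop ▸ hle))
    exact zero_notMem_nonZeroDivisors h0
  have hmem : u' η ∈ trace u v z i := htr ▸ ⟨η, hSz η hη, rfl⟩
  refine ih ⟨closure (trace u v z i'), isClosed_closure⟩ (lt_of_le_of_ne ?_ fun he => ?_) F' i' hi' rfl
    ⟨x₀, by rw [htr']; exact ⟨htr ▸ hx₀, hh₀⟩⟩ ?_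
  · rw [← SetLike.coe_subset_coe, hC, htr']
    exact closure_mono Set.inter_subset_left
  · have h1 : u' η ∈ closure (trace u v z i') := by
      have := congrArg (fun C : Closeds X => (C : Set X)) he
      exact (Set.ext_iff.1 (this.trans hC) _).2 (subset_closure hmem)
    have h2 : closure (trace u v z i') ⊆ j ⁻¹' Set.range h :=
      closure_minimal (htr'.le.trans Set.inter_subset_right) (h.isClosedEmbedding.isClosed_range.preimage j.continuous)
    exact hhS _ ⟨_, ⟨η, hη, rfl⟩, rfl⟩ (h2 h1)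
  · let k : pullback i' u ⟶ pullback i u := pullback.lift (pullback.fst i' u ≫ pullback.fst _ _) (pullback.snd i' u)
      (by rw [Category.assoc]; exact pullback.condition)
    let ψ : pullback i' u ⟶ H := pullback.fst i' u ≫ pullback.snd _ _
    have hk : k ≫ pullback.snd i u = pullback.snd i' u := pullback.lift_snd _ _ _
    have hk1 : k ≫ pullback.fst i u = pullback.fst i' u ≫ pullback.fst (i ≫ j) h := pullback.lift_fst _ _ _
    have sq : IsPullback k ψ (pullback.fst i u ≫ i ≫ j) h := by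
      refine ⟨⟨by rw [reassoc_of% hk1, pullback.condition, Category.assoc]⟩, ⟨PullbackCone.IsLimit.mk _
        (fun c => pullback.lift (pullback.lift (c.fst ≫ pullback.fst i u) c.snd ((Category.assoc _ _ _).trans c.condition))
          (c.fst ≫ pullback.snd i u) (by simp only [i', pullback.lift_fst_assoc, Category.assoc, pullback.condition]))
        (fun c => ?_) (fun c => ?_) fun c m h1 h2 => ?_⟩⟩
      · refine pullback.hom_ext ?_ ?_
        · rw [Category.assoc, hk1, pullback.lift_fst_assoc, pullback.lift_fst]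
        · rw [Category.assoc, hk, pullback.lift_snd]
      · simp only [ψ, pullback.lift_fst_assoc, pullback.lift_snd]
      · refine pullback.hom_ext (pullback.hom_ext ?_ ?_) ?_
        · rw [pullback.lift_fst, pullback.lift_fst, Category.assoc, ← hk1, reassoc_of% h1]
        · rw [pullback.lift_fst, pullback.lift_snd, Category.assoc]
          exact h2
        · rw [pullback.lift_snd, ← hk, reassoc_of% h1]
    intro w hw
    have e : pullback.snd i' u ≫ v = k ≫ v' := by rw [← hk, Category.assoc]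
    rw [e] at hw
    have hfl := flat_stalkMap_slice v' z hSreg sq hlp (fun η hη hr => hhS _ ⟨_, ⟨η, hη, rfl⟩, rfl⟩ (by
      simpa only [u', ← Scheme.Hom.comp_apply, ← pullback.condition, Category.assoc, ← pullback.condition_assoc]
        using hr)) hflat w hw
    rwa [e]

/-- Cutting the image of a fibre down to a finite set by a closed subscheme, flatly. -/
theorem exists_closedSubscheme [IsAffine T] [IsNoetherian T] (pX : X ⟶ T) (pY : Y ⟶ T) (pZ : Z ⟶ T)
    [LocallyOfFiniteType pY] [QuasiCompact pY] [LocallyOfFiniteType pZ] [QuasiCompact pZ]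
    (hX : RelProj.IsQuasiProjective pX) (hu : u ≫ pX = pY) (hv : v ≫ pZ = pY)
    (hz : z ∈ Set.range v) (hzc : ∀ z' : Z, z' ∈ closure ({z} : Set Z) → pZ z' = pZ z → z' = z)
    (hflat : ∀ y : Y, v y = z → (v.stalkMap y).hom.Flat) :
    ∃ (F : Scheme.{u}) (i : F ⟶ X), IsClosedImmersion i ∧ (trace u v z i).Finite ∧ (trace u v z i).Nonempty ∧
      ∀ y' : ↥(pullback i u), (pullback.snd i u ≫ v) y' = z → ((pullback.snd i u ≫ v).stalkMap y').hom.Flat := by
  obtain ⟨hX1, hX2, L, hL⟩ := hX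
  haveI := hX1
  haveI := hX2
  obtain ⟨m₀, hm⟩ := AmpleImm18.exists_immersion_pow_of_isAmple (R := Γ(T, ⊤)) (pX ≫ T.isoSpec.hom)
    ((RA.isRelAmple_iff_isAmple pX).1 hL)
  obtain ⟨n, j, hj, -⟩ := hm m₀ le_rfl
  haveI := hj
  refine exists_cut_finite u v z pX pY pZ hu hv j hzc ⟨closure (trace u v z (𝟙 X)), isClosed_closure⟩ X (𝟙 X)
    inferInstance rfl ?_ ?_
  · obtain ⟨y, hy⟩ := hz
    exact ⟨u y, y, ⟨⟨u y, rfl⟩, hy⟩, rfl⟩
  · intro y' hy'
    rw [Scheme.Hom.stalkMap_comp]
    show ((pullback.snd (𝟙 X) u).stalkMap y').hom.comp (v.stalkMap (pullback.snd (𝟙 X) u y')).hom |>.Flat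
    exact RingHom.Flat.comp (hflat _ hy') (RingHom.Flat.of_bijective (ConcreteCategory.bijective_of_isIso _))

end Main

end Groth.Agent.GrpdCut19
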