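import Groth.Agent.Lib.Twist.QCoh
import Groth.Agent.Lib.ProjSpace.Basic
import Groth.Agent.Lib.RegImm26.Noeth

/-!
# Hypersurfaces of projective space over a ring, and their local equations
-/

set_option autoImplicit false
set_option linter.style.haveILetI false
set_option backward.isDefEq.respectTransparency.types false
universe u

open CategoryTheory CategoryTheory.Limits AlgebraicGeometry HomogeneousLocalization

noncomputable section

namespace Groth.Agent.GrpdCut19

section Eqn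

variable {A σ : Type u} [CommRing A] [SetLike σ A] [AddSubgroupClass σ A] (𝒜 : ℕ → σ) [GradedRing 𝒜]

/-- `a / f ^ d` and `a / g ^ d` differ by a factor on `D₊(f g)`. -/
theorem res_eqn_mul {f g : A} (hf : f ∈ 𝒜 1) (hg : g ∈ 𝒜 1) {d : ℕ} {a : A} (ha : a ∈ 𝒜 (d • 1)) :
    ∃ t : Γ(Proj 𝒜, Proj.basicOpen 𝒜 (f * g)),
      (Proj 𝒜).presheaf.map (homOfLE (Proj.basicOpen_mono 𝒜 g (f * g) ⟨f, mul_comm f g⟩)).op
          (Proj.awayToSection 𝒜 g (Away.mk 𝒜 hg d a ha)) =
        t * (Proj 𝒜).presheaf.map (homOfLE (Proj.basicOpen_mono 𝒜 f (f * g) ⟨g, rfl⟩)).op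
          (Proj.awayToSection 𝒜 f (Away.mk 𝒜 hf d a ha)) := by
  have hfg : f * g ∈ 𝒜 (1 + 1) := SetLike.mul_mem_graded hf hg
  have e : ∀ (f' g' : A) (hf' : f' ∈ 𝒜 1) (hg' : g' ∈ 𝒜 1) (h : f * g = f' * g') (hle),
      (Proj 𝒜).presheaf.map (homOfLE hle).op (Proj.awayToSection 𝒜 f' (Away.mk 𝒜 hf' d a ha)) =
        Proj.awayToSection 𝒜 (f * g) (Away.mk 𝒜 hfg d (a * g' ^ d) (by
          rw [smul_add]; exact SetLike.mul_mem_graded ha (SetLike.pow_mem_graded d hg'))) := by
    intro f' g' hf' hg' h hle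
    have := congr($(Proj.awayMap_awayToSection 𝒜 (f := f') hg' h) (Away.mk 𝒜 hf' d a ha))
    refine (this.symm).trans ((CommRingCat.comp_apply _ _ _).trans (congrArg _ ?_))
    exact awayMap_mk 𝒜 hg' h _ hf' a ha
  refine ⟨Proj.awayToSection 𝒜 (f * g) (Away.mk 𝒜 hfg d (f ^ (d + d)) (by
    have := SetLike.pow_mem_graded (d + d) hf
    simpa [smul_eq_mul, mul_two] using this)), ?_⟩
  rw [e g f hg hf (mul_comm f g), e f g hf hg rfl, ← map_mul]
  congr 1
  ext
  rw [val_mul]
  simp only [Away.val_mk, Localization.mk_mul]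
  rw [Localization.mk_eq_mk_iff, Localization.r_iff_exists]
  refine ⟨1, ?_⟩
  simp only [OneMemClass.coe_one, one_mul, Submonoid.coe_mul]
  ring

end Eqn

/-- A closed immersion cut out locally by one equation. -/
def IsLocPrincipal {H P : Scheme.{u}} (h : H ⟶ P) : Prop :=
  ∀ w, ∃ (D : P.Opens) (g : Γ(P, D)), IsAffineOpen D ∧ w ∈ D ∧
    RingHom.ker (h.app D).hom = Ideal.span {g} ∧ ∀ w', w' ∈ D → (w' ∈ Set.range h ↔ w' ∉ P.basicOpen g)

variable (n : ℕ) (R : Type u) [CommRing R]

attribute [local instance] MvPolynomial.gradedAlgebra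

local notation "GR" => CohB1.polyGrading n R

/-- A hypersurface of `P^n_R`, as a closed subscheme with one equation on each member of an affine cover. -/
theorem exists_hypersurface {d : ℕ} (f : MvPolynomial (Fin (n + 1)) R) (hf : f ∈ GR d) :
    ∃ (H : Scheme.{u}) (h : H ⟶ CohB1.ProjSpace n R), IsClosedImmersion h ∧ IsLocPrincipal h ∧
      ∀ w, w ∈ Set.range h ↔ f ∈ (w : ProjectiveSpectrum GR).asHomogeneousIdeal := by
  classical
  have hX : ∀ j, (MvPolynomial.X j : MvPolynomial (Fin (n + 1)) R) ∈ GR 1 := fun j =>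
    MvPolynomial.isHomogeneous_X R j
  have hfd : f ∈ GR (d • 1) := by rwa [smul_eq_mul, mul_one]
  let D : Fin (n + 1) → (CohB1.ProjSpace n R).Opens := fun j => Proj.basicOpen GR (MvPolynomial.X j)
  have hD : ∀ j, IsAffineOpen (D j) := fun j => Proj.isAffineOpen_basicOpen GR _ (hX j) Nat.one_pos
  let g : ∀ j, Γ(CohB1.ProjSpace n R, D j) := fun j =>
    Proj.awayToSection GR (MvPolynomial.X j) (Away.mk GR (hX j) d f hfd)
  let c : ∀ j, Spec (CommRingCat.of (Γ(CohB1.ProjSpace n R, D j) ⧸ Ideal.span {g j})) ⟶ CohB1.ProjSpace n R :=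
    fun j => Spec.map (CommRingCat.ofHom (Ideal.Quotient.mk _)) ≫ (hD j).fromSpec
  let I : (CohB1.ProjSpace n R).IdealSheafData := ⨅ j, (c j).ker
  haveI hqc : ∀ j, QuasiCompact (c j) := fun j => by
    haveI : (CohB1.ProjSpace n R).IsSeparated := by
      haveI : IsProper (CohB1.ProjSpace.toSpec n R) := ProjSpace.isProper_toSpec n R
      constructor
      rw [← terminal.comp_from (CohB1.ProjSpace.toSpec n R)]
      infer_instance
    infer_instance
  have happ : ∀ j, (c j).appLE (D j) ⊤ (by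
      rw [Scheme.Hom.comp_preimage, (hD j).fromSpec_preimage_self, Scheme.Hom.preimage_top]) =
      CommRingCat.ofHom (Ideal.Quotient.mk _) ≫ (Scheme.ΓSpecIso _).inv := fun j => by
    rw [Scheme.Hom.comp_appLE, (hD j).fromSpec_app_self, Category.assoc, Scheme.Hom.map_appLE,
      Scheme.ΓSpecIso_inv_naturality]
    rfl
  have hI : ∀ j, I.ideal ⟨D j, hD j⟩ = Ideal.span {g j} := by
    intro j
    have hle : I.ideal ⟨D j, hD j⟩ = ⨅ i, RingHom.ker ((c i).app (D j)).hom := by
      simp only [I, Scheme.IdealSheafData.ideal_iInf, iInf_apply, Scheme.Hom.ker_apply]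
    rw [hle]
    refine le_antisymm ((iInf_le _ j).trans fun x hx => ?_) (le_iInf fun i => ?_)
    · have hT : (⊤ : (Spec (CommRingCat.of (Γ(CohB1.ProjSpace n R, D j) ⧸ Ideal.span {g j}))).Opens) ≤ c j ⁻¹ᵁ D j := by
        rw [Scheme.Hom.comp_preimage, (hD j).fromSpec_preimage_self, Scheme.Hom.preimage_top]
      have h1 : (c j).appLE (D j) ⊤ hT x = 0 := by
        rw [Scheme.Hom.appLE, CommRingCat.comp_apply, show (c j).app (D j) x = 0 from hx, map_zero]
      have h1 := (congr($(happ j) x)).symm.trans h1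
      exact Ideal.Quotient.eq_zero_iff_mem.1
        ((Scheme.ΓSpecIso _).symm.commRingCatIsoToRingEquiv.injective (h1.trans (map_zero _).symm))
    · rw [Ideal.span_singleton_le_iff_mem, RingHom.mem_ker]
      have hT : ∀ V : (Spec (CommRingCat.of (Γ(CohB1.ProjSpace n R, D i) ⧸ Ideal.span {g i}))).Opens,
          V ≤ c i ⁻¹ᵁ D i := fun V => le_top.trans (by
        rw [Scheme.Hom.comp_preimage, (hD i).fromSpec_preimage_self, Scheme.Hom.preimage_top])
      have hmul : Proj.basicOpen GR (MvPolynomial.X i * MvPolynomial.X j) = D i ⊓ D j := Proj.basicOpen_mul GR _ _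
      let V := c i ⁻¹ᵁ D j
      have hV : V ≤ c i ⁻¹ᵁ Proj.basicOpen GR (MvPolynomial.X i * MvPolynomial.X j) := by
        rw [hmul]; exact le_inf (hT V) le_rfl
      obtain ⟨t, ht⟩ := res_eqn_mul GR (hX i) (hX j) hfd
      have key : ∀ k hle (hk : V ≤ c i ⁻¹ᵁ D k), (c i).appLE (Proj.basicOpen GR (MvPolynomial.X i * MvPolynomial.X j)) V hV
          ((CohB1.ProjSpace n R).presheaf.map (homOfLE (x := Proj.basicOpen GR (MvPolynomial.X i * MvPolynomial.X j))
            (y := D k) hle).op (g k)) = (c i).appLE (D k) V hk (g k) := fun k hle hk =>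
        congr($(Scheme.Hom.map_appLE (c i) (U' := D k) hV (homOfLE hle).op) (g k))
      show (c i).app (D j) (g j) = 0
      rw [Scheme.Hom.app_eq_appLE, ← key j (Proj.basicOpen_mono GR _ _ ⟨_, mul_comm _ _⟩) le_rfl]
      refine (congrArg _ ht).trans ?_
      refine (map_mul _ _ _).trans (mul_eq_zero_of_right _ ?_)
      refine (key i _ (hT V)).trans ?_
      refine (congr($(Scheme.Hom.appLE_map (c i) (U := D i) (V := ⊤) (hT ⊤) (homOfLE (le_top (a := V))).op) (g i))).symm.trans ?_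
      have h0 : (c i).appLE (D i) ⊤ (hT ⊤) (g i) = 0 := by
        refine (congr($(happ i) (g i))).trans ?_
        show (Scheme.ΓSpecIso (CommRingCat.of (Γ(CohB1.ProjSpace n R, D i) ⧸ Ideal.span {g i}))).inv
          (Ideal.Quotient.mk (Ideal.span {g i}) (g i)) = 0
        exact (congrArg _ (Ideal.Quotient.eq_zero_iff_mem.2 (Ideal.mem_span_singleton_self (g i)))).trans
          (map_zero (Scheme.ΓSpecIso (CommRingCat.of (Γ(CohB1.ProjSpace n R, D i) ⧸ Ideal.span {g i}))).inv.hom)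
      rw [CommRingCat.comp_apply]
      exact (congrArg _ h0).trans (map_zero _)
  have hran : ∀ j w, w ∈ D j → (w ∈ Set.range I.subschemeι ↔ w ∉ (CohB1.ProjSpace n R).basicOpen (g j)) := by
    intro j w' hw'
    rw [I.range_subschemeι, SetLike.mem_coe, Scheme.IdealSheafData.mem_support_iff_of_mem (U := ⟨D j, hD j⟩) hw', hI,
      Scheme.zeroLocus_span, Scheme.mem_zeroLocus_iff]
    simp only [Set.mem_singleton_iff, forall_eq]
  refine ⟨I.subscheme, I.subschemeι, inferInstance, fun w => ?_, fun w => ?_⟩ <;>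
    obtain ⟨j, hj⟩ := ProjSpace.exists_mem_chart n R w <;> rw [ProjSpace.opensRange_chart] at hj
  · exact ⟨D j, g j, hD j, hj, (I.ker_subschemeι_app ⟨D j, hD j⟩).trans (hI j), hran j⟩
  · rw [hran j w hj, show (CohB1.ProjSpace n R).basicOpen (g j) = D j ⊓ Proj.basicOpen GR f from
      (Twist.basicOpen_awayToSection GR Nat.one_pos (hX j) hfd).trans (Proj.basicOpen_mul GR _ _)]
    exact ⟨fun h => not_not.1 fun h' => h ⟨hj, h'⟩, fun h h' => h'.2 h⟩

end Groth.Agent.GrpdCut19
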