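import Groth.Agent.Lib.GrpdCut19.Hyper
import Groth.Agent.Lib.GrpdSlice19.Cut

/-!
# Flatness of a slice, with associated points of a fibre as the only obstruction
-/

set_option autoImplicit false
set_option linter.style.haveILetI false
set_option backward.isDefEq.respectTransparency.types false
universe u

open CategoryTheory CategoryTheory.Limits AlgebraicGeometry IsLocalRing

noncomputable section

namespace Groth.Agent.GrpdCut19

theorem fromSpecStalk_mem_basicOpen' {X : Scheme.{u}} (x : X) {U : X.Opens} (hx : x ∈ U) (s : Γ(X, U))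
    (q : Spec (X.presheaf.stalk x)) :
    X.fromSpecStalk x q ∈ X.basicOpen s ↔ X.presheaf.germ U x hx s ∉ q.asIdeal := by
  rw [← Scheme.Hom.mem_preimage, Scheme.preimage_basicOpen, Scheme.fromSpecStalk_app hx, CommRingCat.comp_apply,
    CommRingCat.comp_apply, Scheme.basicOpen_res, basicOpen_eq_of_affine]
  refine ⟨fun h => h.2, fun h => ⟨?_, h⟩⟩
  have h' : X.fromSpecStalk x q ⤳ x := by
    have : X.fromSpecStalk x q ∈ Set.range (X.fromSpecStalk x) := ⟨q, rfl⟩
    rwa [Scheme.range_fromSpecStalk] at this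
  exact h'.mem_open U.2 hx

/-- The stalk kernel of a base change of a closed immersion with one equation. -/
theorem ker_stalkMap_principal {Z H P' P : Scheme.{u}} {k : Z ⟶ P'} {ψ : Z ⟶ H} {φ : P' ⟶ P} {h : H ⟶ P}
    (sq : IsPullback k ψ φ h) [IsClosedImmersion h] [IsClosedImmersion k] (z : Z) {D : P.Opens}
    (hD : IsAffineOpen D) (hz : φ (k z) ∈ D) {g : Γ(P, D)} (hg : RingHom.ker (h.app D).hom = Ideal.span {g}) :
    RingHom.ker (k.stalkMap z).hom =
      Ideal.span {φ.stalkMap (k z) (P.presheaf.germ D (φ (k z)) hz g)} := by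
  obtain ⟨O, hO, hzO, hle⟩ := exists_isAffineOpen_mem_and_subset (X := P') (x := k z) (U := φ ⁻¹ᵁ D) hz
  have hOD : O ≤ φ ⁻¹ᵁ D := hle
  let gO : Γ(P', O) := φ.appLE D O hOD g
  suffices hk : RingHom.ker (k.app O).hom = Ideal.span {gO} by
    rw [RegImm26.ker_stalkMap_eq k z hO hzO, hk, Ideal.map_span, Set.image_singleton]
    congr 2
    rw [Scheme.Hom.germ_stalkMap_apply]
    exact P'.presheaf.germ_res_apply (homOfLE hOD) (k z) hzO _
  apply le_antisymm
  · intro x hx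
    have hH : IsAffineOpen (h ⁻¹ᵁ D) := hD.preimage h
    let mk := CommRingCat.ofHom (Ideal.Quotient.mk (Ideal.span {gO}))
    let β : Γ(P, D) ⟶ CommRingCat.of (Γ(P', O) ⧸ Ideal.span {gO}) := φ.appLE D O hOD ≫ mk
    have hker : RingHom.ker (h.app D).hom ≤ RingHom.ker β.hom := by
      rw [hg, Ideal.span_singleton_le_iff_mem, RingHom.mem_ker]
      exact Ideal.Quotient.eq_zero_iff_mem.2 (Ideal.mem_span_singleton_self gO)
    let bar : Γ(H, h ⁻¹ᵁ D) ⟶ CommRingCat.of (Γ(P', O) ⧸ Ideal.span {gO}) :=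
      CommRingCat.ofHom (RingHom.liftOfSurjective (h.app D).hom (h.app_surjective D hD) ⟨β.hom, hker⟩)
    have hbar : h.app D ≫ bar = β := by
      ext1; exact RingHom.liftOfRightInverse_comp _ _ _ _
    let j := Spec.map mk ≫ hO.fromSpec
    have hj : j ≫ φ = (Spec.map bar ≫ hH.fromSpec) ≫ h := by
      have e : h.appLE D (h ⁻¹ᵁ D) le_rfl = h.app D := (Scheme.Hom.app_eq_appLE h).symm
      rw [Category.assoc, Category.assoc, ← IsAffineOpen.SpecMap_appLE_fromSpec h hD hH le_rfl, e,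
        ← IsAffineOpen.SpecMap_appLE_fromSpec φ hD hO hOD, ← Category.assoc, ← Category.assoc, ← Spec.map_comp,
        ← Spec.map_comp, hbar]
    let l := sq.lift j (Spec.map bar ≫ hH.fromSpec) hj
    have hl : l ≫ k = j := sq.lift_fst _ _ _
    have hjO : (⊤ : (Spec (CommRingCat.of (Γ(P', O) ⧸ Ideal.span {gO}))).Opens) ≤ j ⁻¹ᵁ O := by
      rw [Scheme.Hom.comp_preimage, hO.fromSpec_preimage_self, Scheme.Hom.preimage_top]
    have h1 : (l ≫ k).appLE O ⊤ (by rw [hl]; exact hjO) x = 0 := by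
      rw [Scheme.Hom.comp_appLE, CommRingCat.comp_apply, show (k.app O).hom x = 0 from hx, map_zero]
    simp only [hl] at h1
    have h2 : j.appLE O ⊤ hjO = mk ≫ (Scheme.ΓSpecIso _).inv := by
      rw [Scheme.Hom.comp_appLE, hO.fromSpec_app_self, Category.assoc, Scheme.Hom.map_appLE,
        Scheme.ΓSpecIso_inv_naturality]
      rfl
    rw [h2, CommRingCat.comp_apply] at h1
    exact Ideal.Quotient.eq_zero_iff_mem.1
      ((Scheme.ΓSpecIso _).symm.commRingCatIsoToRingEquiv.injective (h1.trans (map_zero _).symm))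
  · rw [Ideal.span_singleton_le_iff_mem, RingHom.mem_ker]
    show (φ.appLE D O hOD ≫ k.app O) g = 0
    rw [Scheme.Hom.app_eq_appLE, Scheme.Hom.appLE_comp_appLE]
    simp only [sq.w]
    have hle' : k ⁻¹ᵁ O ≤ ψ ⁻¹ᵁ (h ⁻¹ᵁ D) := by
      rw [← Scheme.Hom.comp_preimage, ← sq.w, Scheme.Hom.comp_preimage]
      exact Scheme.Hom.preimage_mono k hOD
    rw [← Scheme.Hom.appLE_comp_appLE ψ h D (h ⁻¹ᵁ D) (k ⁻¹ᵁ O) le_rfl hle', CommRingCat.comp_apply]
    have h0 : h.appLE D (h ⁻¹ᵁ D) le_rfl g = 0 := by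
      rw [← Scheme.Hom.app_eq_appLE]
      have : g ∈ RingHom.ker (h.app D).hom := hg ▸ Ideal.mem_span_singleton_self g
      exact this
    rw [h0, map_zero]

variable {Y Z : Scheme.{u}} (v : Y ⟶ Z) (z : Z)

/-- The fibre ideal at `y`. -/
abbrev fibIdeal (y : Y) : Ideal (Y.presheaf.stalk y) :=
  (maximalIdeal (Z.presheaf.stalk (v y))).map (v.stalkMap y).hom

theorem eq_of_fibIdeal_le {y : Y} (q : Spec (Y.presheaf.stalk y)) (h : fibIdeal v y ≤ q.asIdeal) :
    v (Y.fromSpecStalk y q) = v y := by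
  rw [← Scheme.Hom.comp_apply, ← Scheme.SpecMap_stalkMap_fromSpecStalk, Scheme.Hom.comp_apply]
  conv_rhs => rw [← Scheme.fromSpecStalk_closedPoint (X := Z) (x := v y)]
  refine congrArg _ (PrimeSpectrum.ext ((maximalIdeal.isMaximal _).eq_of_le ?_ (Ideal.map_le_iff_le_comap.1 h)).symm)
  exact (q.isPrime.comap (v.stalkMap y).hom).ne_top

/-- Finitely many points of a fibre detect the elements which are not regular on the fibre. -/
theorem exists_finite_assPoints [IsNoetherian Y] :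
    ∃ S : Set Y, S.Finite ∧ (∀ η ∈ S, v η = z) ∧ ∀ y, v y = z → ∀ (U : Y.Opens) (hy : y ∈ U) (s : Γ(Y, U)),
      (∀ η ∈ S, η ⤳ y → η ∈ Y.basicOpen s) →
      Ideal.Quotient.mk (fibIdeal v y) (Y.presheaf.germ U y hy s) ∈
        nonZeroDivisors (Y.presheaf.stalk y ⧸ fibIdeal v y) := by
  classical
  obtain ⟨W, hW, hzW, -⟩ := exists_isAffineOpen_mem_and_subset (X := Z) (x := z) (U := ⊤) trivial
  choose V hV hyV hVW using fun y : (v ⁻¹ᵁ W : Set Y) =>
    exists_isAffineOpen_mem_and_subset (X := Y) (x := y.1) (U := v ⁻¹ᵁ W) y.2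
  obtain ⟨T, hT⟩ := (TopologicalSpace.NoetherianSpace.isCompact (v ⁻¹ᵁ W : Set Y)).elim_finite_subcover (fun y => (V y : Set Y))
    (fun y => (V y).isOpen) fun x hx => Set.mem_iUnion.2 ⟨⟨x, hx⟩, hyV ⟨x, hx⟩⟩
  let p : Ideal Γ(Z, W) := (hW.primeIdealOf ⟨z, hzW⟩).asIdeal
  let φ : ∀ t, Γ(Z, W) →+* Γ(Y, V t) := fun t => (v.appLE W (V t) (hVW t)).hom
  let Pt : (v ⁻¹ᵁ W : Set Y) → Set Y := fun t => (hV t).fromSpec '' {q | q.asIdeal ∈
    associatedPrimes Γ(Y, V t) (Γ(Y, V t) ⧸ p.map (φ t))}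
  refine ⟨(⋃ t ∈ T, Pt t) ∩ v ⁻¹' {z}, Set.Finite.inter_of_left ?_ _, fun η hη => hη.2, ?_⟩
  · refine Set.Finite.biUnion T.finite_toSet fun t _ => Set.Finite.image _ ?_
    haveI : IsNoetherianRing Γ(Y, V t) := IsLocallyNoetherian.component_noetherian ⟨V t, hV t⟩
    exact Set.Finite.preimage (fun a _ b _ h => PrimeSpectrum.ext h)
      (associatedPrimes.finite Γ(Y, V t) (Γ(Y, V t) ⧸ p.map (φ t)))
  intro y hy U hyU s hs
  obtain ⟨t, htT, hyt⟩ := Set.mem_iUnion₂.1 (hT (show v y ∈ W by rw [hy]; exact hzW))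
  haveI : IsNoetherianRing Γ(Y, V t) := IsLocallyNoetherian.component_noetherian ⟨V t, hV t⟩
  let St := Y.presheaf.stalk y
  let qy := ((hV t).primeIdealOf ⟨y, hyt⟩).asIdeal
  letI : Algebra Γ(Y, V t) St := Y.presheaf.algebra_section_stalk ⟨y, hyt⟩
  haveI hloc : IsLocalization.AtPrime St qy := (hV t).isLocalization_stalk ⟨y, hyt⟩
  let p' := (hW.primeIdealOf ⟨v y, by rw [hy]; exact hzW⟩).asIdeal
  have hp' : p' = p := by simp only [p', p, hy]
  letI : Algebra Γ(Z, W) (Z.presheaf.stalk (v y)) := Z.presheaf.algebra_section_stalk ⟨v y, by rw [hy]; exact hzW⟩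
  haveI hlocZ : IsLocalization.AtPrime (Z.presheaf.stalk (v y)) p' := hW.isLocalization_stalk ⟨v y, by rw [hy]; exact hzW⟩
  have hmS : fibIdeal v y = (p.map (φ t)).map (algebraMap Γ(Y, V t) St) := by
    rw [← hp', fibIdeal, ← IsLocalization.AtPrime.map_eq_maximalIdeal p' (Z.presheaf.stalk (v y)), Ideal.map_map,
      Ideal.map_map]
    congr 1
    ext r
    show v.stalkMap y (Z.presheaf.germ W (v y) _ r) = Y.presheaf.germ (V t) y hyt (φ t r)
    rw [Scheme.Hom.germ_stalkMap_apply]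
    exact (Y.presheaf.germ_res_apply (homOfLE (hVW t)) y hyt _).symm
  rw [← not_not (a := _ ∈ nonZeroDivisors _)]
  intro hnot
  have hmem : Ideal.Quotient.mk (fibIdeal v y) (Y.presheaf.germ U y hyU s) ∈
      ⋃ Q ∈ associatedPrimes (St ⧸ fibIdeal v y) (St ⧸ fibIdeal v y), (Q : Set (St ⧸ fibIdeal v y)) := by
    rw [biUnion_associatedPrimes_eq_compl_nonZeroDivisors]; exact hnot
  obtain ⟨Q, hQ, hsQ⟩ := Set.mem_iUnion₂.1 hmem
  haveI hQp : Q.IsPrime := hQ.isPrime
  let M := Γ(Y, V t) ⧸ p.map (φ t)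
  let L := St ⧸ (p.map (φ t)).map (algebraMap Γ(Y, V t) St)
  let ρ : M →ₗ[Γ(Y, V t)] L := CI2.quotLoc (p.map (φ t))
  haveI : IsLocalizedModule qy.primeCompl ρ := CI2.isLocalizedModule_quotLoc qy.primeCompl (p.map (φ t))
  let q' : Spec (Y.presheaf.stalk y) := ⟨Q.comap (Ideal.Quotient.mk (fibIdeal v y)), Ideal.IsPrime.comap _⟩
  have hass : q'.asIdeal ∈ associatedPrimes St (St ⧸ fibIdeal v y) := by
    obtain ⟨-, x, hx⟩ := hQ
    refine ⟨q'.isPrime, x, ?_⟩
    ext r
    show Ideal.Quotient.mk _ r ∈ Q ↔ _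
    rw [hx]
    simp only [Ideal.mem_radical_iff, Submodule.mem_colon_singleton, Submodule.mem_bot]
    rfl
  have hass' : q'.asIdeal ∈ associatedPrimes St L := by
    rw [← LinearEquiv.AssociatedPrimes.eq (Submodule.quotEquivOfEq _ _ hmS)]
    exact hass
  have hq := Module.associatedPrimes.comap_mem_associatedPrimes_of_mem_associatedPrimes_of_isLocalizedModule_of_fg
    qy.primeCompl ρ q'.asIdeal hass' (IsNoetherian.noetherian _)
  let η := Y.fromSpecStalk y q'
  have hvη : v η = z := by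
    rw [← hy]
    exact eq_of_fibIdeal_le v q' fun r hr => by
      show Ideal.Quotient.mk _ r ∈ Q
      rw [Ideal.Quotient.eq_zero_iff_mem.2 hr]
      exact zero_mem _
  have hη : η ∈ Pt t := ⟨⟨_, q'.isPrime.comap (algebraMap Γ(Y, V t) St)⟩, hq, by
    show (hV t).fromSpec _ = Y.fromSpecStalk y q'
    rw [← IsAffineOpen.fromSpecStalk_eq_fromSpecStalk (hV t) hyt]
    rfl⟩
  have hηy : η ⤳ y := by
    have : η ∈ Set.range (Y.fromSpecStalk y) := ⟨q', rfl⟩
    rwa [Scheme.range_fromSpecStalk] at this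
  exact (fromSpecStalk_mem_basicOpen' y hyU s q').1 (hs η ⟨Set.mem_biUnion htT hη, hvη⟩ hηy) hsQ

/-- A slice avoiding the associated points of the fibre is flat over the base at the points of the fibre. -/
theorem flat_stalkMap_slice [IsNoetherian Y] [IsLocallyNoetherian Z] [LocallyOfFiniteType v] {S : Set Y}
    (hS : ∀ y, v y = z → ∀ (U : Y.Opens) (hy : y ∈ U) (s : Γ(Y, U)),
      (∀ η ∈ S, η ⤳ y → η ∈ Y.basicOpen s) →
      Ideal.Quotient.mk (fibIdeal v y) (Y.presheaf.germ U y hy s) ∈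
        nonZeroDivisors (Y.presheaf.stalk y ⧸ fibIdeal v y))
    {W H P : Scheme.{u}} {k : W ⟶ Y} {ψ : W ⟶ H} {φ : Y ⟶ P} {h : H ⟶ P} (sq : IsPullback k ψ φ h)
    [IsClosedImmersion h] (hh : IsLocPrincipal h) (hSh : ∀ η ∈ S, φ η ∉ Set.range h)
    (hflat : ∀ y, v y = z → (v.stalkMap y).hom.Flat) (w : W) (hw : v (k w) = z) :
    ((k ≫ v).stalkMap w).hom.Flat := by
  haveI : IsClosedImmersion k := MorphismProperty.of_isPullback sq.flip ‹_›
  obtain ⟨D, g, hD, hwD, hg, hran⟩ := hh (φ (k w))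
  let b := φ.stalkMap (k w) (P.presheaf.germ D (φ (k w)) hwD g)
  have hker : RingHom.ker (k.stalkMap w).hom = Ideal.span {b} := ker_stalkMap_principal sq w hD hwD hg
  have hb : b = Y.presheaf.germ (φ ⁻¹ᵁ D) (k w) hwD (φ.app D g) := Scheme.Hom.germ_stalkMap_apply φ D _ hwD g
  have hreg : Ideal.Quotient.mk (fibIdeal v (k w)) b ∈ nonZeroDivisors _ := by
    rw [hb]
    refine hS (k w) hw _ hwD _ fun η hη hηy => ?_
    have hηD : φ η ∈ D := (hηy.map φ.continuous).mem_open D.2 hwD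
    rw [← Scheme.preimage_basicOpen]
    exact not_not.1 fun hn => hSh η hη ((hran _ hηD).2 hn)
  have hmax : b ∈ maximalIdeal (Y.presheaf.stalk (k w)) := by
    refine (mem_maximalIdeal _).2 fun hu => ?_
    have h0 : k.stalkMap w b = 0 := by
      have : b ∈ RingHom.ker (k.stalkMap w).hom := hker ▸ Ideal.mem_span_singleton_self b
      exact this
    exact not_isUnit_zero (h0 ▸ hu.map (k.stalkMap w).hom)
  have h1 := GrpdSlice19.flat_quot_stalk v (k w) (hflat _ hw) b hmax hreg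
  let e : (Y.presheaf.stalk (k w) ⧸ Ideal.span {b}) ≃+* W.presheaf.stalk w :=
    (Ideal.quotEquivOfEq hker.symm).trans
      (RingHom.quotientKerEquivOfSurjective (k.stalkMap_surjective w))
  rw [Scheme.Hom.stalkMap_comp]
  show ((k.stalkMap w).hom.comp (v.stalkMap (k w)).hom).Flat
  have he : ((k.stalkMap w).hom.comp (v.stalkMap (k w)).hom) =
      e.toRingHom.comp ((Ideal.Quotient.mk (Ideal.span {b})).comp (v.stalkMap (k w)).hom) := by
    ext r; rfl
  rw [he]
  exact RingHom.Flat.comp h1 (RingHom.Flat.of_bijective e.bijective)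

end Groth.Agent.GrpdCut19
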